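import Groth.Agent.GrpSchLib.SubgroupDescentKey
import Groth.Agent.HomRepLib.Fpqc

/-! Descent of a subgroup affine over the covering, given by a monomorphism. -/

universe u

open CategoryTheory CategoryTheory.Limits MonoidalCategory CartesianMonoidalCategory MonObj GrpObj AlgebraicGeometry

namespace Groth.Agent.MaxTorTransp

set_option linter.style.haveILetI false
set_option autoImplicit false

open GrpSchLib GrpSchLib.SubgroupDescent

variable {S S' : Scheme.{u}} {G : Over S} [GrpObj G] {π : S' ⟶ S} {H' : Over S'} [GrpObj H'] (j' : H' ⟶ Red.bc π G)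

omit [GrpObj H'] in
/-- Descent of a monomorphism of schemes affine over an fpqc covering. -/
theorem exists_descend_mono [Mono j'] [IsAffineHom H'.hom] (hπ : FpqcDescLib.IsCovering π)
    (hkey : ∀ (T : Scheme.{u}) (a b : T ⟶ pullback G.hom π), a ≫ pullback.fst G.hom π = b ≫ pullback.fst G.hom π →
      (∃ l, l ≫ j'.left = a) → ∃ l, l ≫ j'.left = b) :
    ∃ (Z : Scheme.{u}) (i : Z ⟶ G.left), Mono i ∧ ∀ (P : Scheme.{u}) (x : P ⟶ pullback G.hom π),
      (∃ l, l ≫ j'.left = x) ↔ ∃ m, m ≫ i = x ≫ pullback.fst G.hom π := by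
  haveI : Mono j'.left := inferInstanceAs (Mono ((Over.forget _).map j'))
  have hw : j'.left ≫ pullback.snd G.hom π = H'.hom := Over.w j'
  have key : ∀ {T : Scheme.{u}} (x₀ x₁ : T ⟶ S') (_ : x₀ ≫ π = x₁ ≫ π) (v : Desc.Lifts H' x₀),
      ∃ v' : Desc.Lifts H' x₁,
        v'.1 ≫ j'.left ≫ pullback.fst G.hom π = v.1 ≫ j'.left ≫ pullback.fst G.hom π := by
    intro T x₀ x₁ h v
    obtain ⟨l, hl⟩ := hkey T (v.1 ≫ j'.left) (pullback.lift (v.1 ≫ j'.left ≫ pullback.fst G.hom π) x₁ (by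
      simp only [Category.assoc, pullback.condition, reassoc_of% hw]
      rw [← Category.assoc, v.2, h])) (by
        rw [pullback.lift_fst, Category.assoc]) ⟨v.1, rfl⟩
    refine ⟨⟨l, by rw [← hw, reassoc_of% hl, pullback.lift_snd]⟩, ?_⟩
    show l ≫ _ = _
    rw [reassoc_of% hl, pullback.lift_fst]
  choose φ hφ using @key
  have ext : ∀ {T : Scheme.{u}} {x : T ⟶ S'} (v v' : Desc.Lifts H' x),
      v.1 ≫ j'.left ≫ pullback.fst G.hom π = v'.1 ≫ j'.left ≫ pullback.fst G.hom π → v = v' := by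
    intro T x v v' h
    refine Subtype.ext ((cancel_mono j'.left).mp (pullback.hom_ext (by simpa only [Category.assoc] using h) ?_))
    rw [Category.assoc, Category.assoc, hw, v.2, v'.2]
  let D : Desc.SchDD π :=
    { obj := H'
      φ := fun T x₀ x₁ h =>
        { toFun := φ x₀ x₁ h
          invFun := φ x₁ x₀ h.symm
          left_inv := fun v => ext _ _ ((hφ x₁ x₀ h.symm _).trans (hφ x₀ x₁ h v))
          right_inv := fun v => ext _ _ ((hφ x₀ x₁ h _).trans (hφ x₁ x₀ h.symm v)) }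
      φ_natural := fun T T' g x₀ x₁ h h' v v' hv' =>
        congrArg Subtype.val (ext (φ (g ≫ x₀) (g ≫ x₁) h' v') ⟨g ≫ (φ x₀ x₁ h v).1,
          (Category.assoc _ _ _).trans (congrArg (g ≫ ·) (φ x₀ x₁ h v).2)⟩ (by
            show _ = (g ≫ (φ x₀ x₁ h v).1) ≫ _
            rw [hφ, hv', Category.assoc, Category.assoc, hφ]))
      φ_self := fun T x v => ext _ _ (hφ x x rfl v)
      φ_comp := fun T x₀ x₁ x₂ h₀₁ h₁₂ v => ext _ _ ((hφ x₁ x₂ h₁₂ _).trans
        ((hφ x₀ x₁ h₀₁ v).trans (hφ x₀ x₂ _ v).symm)) }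
  haveI : IsAffineHom D.obj.hom := ‹IsAffineHom H'.hom›
  obtain ⟨U, ⟨I⟩⟩ := HomRepLib.effective_affine_covering π hπ D
  let ε : pullback π U.hom ⟶ H'.left := I.hom.hom.left
  let ε' : H'.left ⟶ pullback π U.hom := I.inv.hom.left
  have hεε : ε' ≫ ε = 𝟙 _ := congrArg (fun m : D ⟶ D => m.hom.left) I.inv_hom_id
  have hεε' : ε ≫ ε' = 𝟙 _ := congrArg (fun m => m.hom.left) I.hom_inv_id
  have hεw : ε ≫ H'.hom = pullback.fst π U.hom := Over.w I.hom.hom
  have hcov : FpqcDescLib.Covers (pullback.snd π U.hom) :=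
    (FpqcDescLib.covers_of_isCovering hπ).pullback U.hom _ _ (IsPullback.of_hasPullback π U.hom).flip
  obtain ⟨i, hi, -⟩ := hcov.desc (ε ≫ j'.left ≫ pullback.fst G.hom π) fun T a b hab => by
    have h : (a ≫ pullback.fst π U.hom) ≫ π = (b ≫ pullback.fst π U.hom) ≫ π := by
      rw [Category.assoc, Category.assoc, pullback.condition, reassoc_of% hab]
    let va : Desc.Lifts ((Desc.toDD π).obj U).obj (a ≫ pullback.fst π U.hom) := ⟨a, rfl⟩
    let wa : Desc.Lifts D.obj (a ≫ pullback.fst π U.hom) :=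
      ⟨a ≫ ε, (Category.assoc _ _ _).trans (congrArg (a ≫ ·) hεw)⟩
    have hc : (φ _ (b ≫ pullback.fst π U.hom) h wa).1 = _ := I.hom.comm _ (b ≫ pullback.fst π U.hom) h va wa rfl
    have hcan : (Desc.canMap π U _ (b ≫ pullback.fst π U.hom) h va).1 = b := by
      refine pullback.hom_ext (pullback.lift_fst _ _ _) ?_
      exact (pullback.lift_snd _ _ _).trans hab
    have := hφ _ (b ≫ pullback.fst π U.hom) h wa
    rw [hc] at this
    show a ≫ ε ≫ _ = b ≫ ε ≫ _
    rw [← Category.assoc a, ← Category.assoc b]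
    refine this.symm.trans ?_
    exact congrArg (fun m => (m ≫ ε) ≫ j'.left ≫ pullback.fst G.hom π) hcan
  haveI := hcov.epi
  have hiw : i ≫ G.hom = U.hom := by
    rw [← cancel_epi (pullback.snd π U.hom), reassoc_of% hi, pullback.condition, reassoc_of% hw, reassoc_of% hεw,
      ← pullback.condition]
  have hfac : ∀ (P : Scheme.{u}) (x : P ⟶ pullback G.hom π),
      (∃ l, l ≫ j'.left = x) ↔ ∃ m, m ≫ i = x ≫ pullback.fst G.hom π := by
    refine fun P x => ⟨fun ⟨l, hl⟩ => ⟨l ≫ ε' ≫ pullback.snd π U.hom, ?_⟩, fun ⟨m, hm⟩ => ?_⟩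
    · rw [Category.assoc, Category.assoc, hi, reassoc_of% hεε, reassoc_of% hl]
    · have e : (x ≫ pullback.snd G.hom π) ≫ π = m ≫ U.hom := by
        rw [Category.assoc, ← pullback.condition, ← reassoc_of% hm, hiw]
      refine ⟨pullback.lift (x ≫ pullback.snd G.hom π) m e ≫ ε, pullback.hom_ext ?_ ?_⟩
      · simp only [Category.assoc]
        rw [← hi, pullback.lift_snd_assoc, hm]
      · simp only [Category.assoc]
        rw [hw, hεw, pullback.lift_fst]
  refine ⟨U.left, i, ⟨fun {P} m₁ m₂ hm => ?_⟩, hfac⟩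
  have hU : m₁ ≫ U.hom = m₂ ≫ U.hom := by rw [← hiw, reassoc_of% hm]
  have hc := (FpqcDescLib.covers_of_isCovering hπ).pullback (m₁ ≫ U.hom) _ _
    (IsPullback.of_hasPullback π (m₁ ≫ U.hom)).flip
  haveI := hc.epi
  rw [← cancel_epi (pullback.snd π (m₁ ≫ U.hom))]
  let q : ∀ m : P ⟶ U.left, m ≫ U.hom = m₁ ≫ U.hom → (pullback π (m₁ ≫ U.hom) ⟶ pullback π U.hom) := fun m hm =>
    pullback.lift (pullback.fst π (m₁ ≫ U.hom)) (pullback.snd π (m₁ ≫ U.hom) ≫ m) (by
      rw [pullback.condition, Category.assoc, hm])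
  have : q m₁ rfl ≫ ε = q m₂ hU.symm ≫ ε := by
    refine congrArg Subtype.val (ext (x := pullback.fst π (m₁ ≫ U.hom))
      ⟨_, by rw [Category.assoc, hεw]; exact pullback.lift_fst _ _ _⟩
      ⟨_, by rw [Category.assoc, hεw]; exact pullback.lift_fst _ _ _⟩ ?_)
    simp only [Category.assoc, ← hi, q, pullback.lift_snd_assoc, hm]
  have h2 := congrArg (· ≫ ε' ≫ pullback.snd π U.hom) this
  simpa only [Category.assoc, reassoc_of% hεε', q, pullback.lift_snd] using h2

/-- Descent of a subgroup of multiplicative type given by a monomorphism. -/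
theorem exists_descent_mono [IsMonHom j'] [Mono j'] (hπ : FpqcDescLib.IsCovering π)
    (hH' : SGA3x.IsMultTypeFT H')
    (hkey : ∀ (T : Scheme.{u}) (a b : T ⟶ pullback G.hom π), a ≫ pullback.fst G.hom π = b ≫ pullback.fst G.hom π →
      (∃ l, l ≫ j'.left = a) → ∃ l, l ≫ j'.left = b) :
    ∃ (H : Over S) (_ : GrpObj H) (j : H ⟶ G), IsMonHom j ∧ Mono j ∧
      ∃ φ : Red.bc π H ≅ H', φ.hom ≫ j' = (Over.pullback π).map j := by
  haveI : (Over.pullback π).IsRightAdjoint := (Over.mapPullbackAdj π).isRightAdjoint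
  haveI : IsAffineHom H'.hom := (TransLib.multTypeFT_essFree hH').1
  obtain ⟨Z, i, hi, hfac⟩ := exists_descend_mono j' hπ hkey
  haveI := hi
  let H : Over S := Over.mk (i ≫ G.hom)
  let j : H ⟶ G := Over.homMk i rfl
  haveI : Mono j.left := hi
  haveI : Mono j := Over.mono_of_mono_left _
  -- membership
  let lift' : ∀ {Y : Over S}, (Y ⟶ G) → (Over.mk (pullback.snd Y.hom π) ⟶ Red.bc π G) := fun {Y} x =>
    Over.homMk (pullback.lift (pullback.fst Y.hom π ≫ x.left) (pullback.snd Y.hom π) (by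
      rw [Category.assoc, Over.w x, pullback.condition])) (pullback.lift_snd _ _ _)
  have hin : ∀ {Y : Over S} (x : Y ⟶ G), (∃ h, h ≫ j' = lift' x) → ∃ y, y ≫ j = x := by
    intro Y x ⟨h, hh⟩
    obtain ⟨l, hl⟩ := (hfac _ _).mp ⟨h.left, congrArg (fun m : _ ⟶ Red.bc π G => m.left) hh⟩
    have hl' : l ≫ i = pullback.fst Y.hom π ≫ x.left := hl.trans (pullback.lift_fst _ _ _)
    obtain ⟨y, hy, -⟩ := ((FpqcDescLib.covers_of_isCovering hπ).pullback Y.hom (pullback.fst Y.hom π)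
      (pullback.snd Y.hom π) (IsPullback.of_hasPullback Y.hom π)).desc l fun T a b e => by
        rw [← cancel_mono i, Category.assoc, Category.assoc, hl', reassoc_of% e]
    haveI := ((FpqcDescLib.covers_of_isCovering hπ).pullback Y.hom (pullback.fst Y.hom π)
      (pullback.snd Y.hom π) (IsPullback.of_hasPullback Y.hom π)).epi
    have hyi : y ≫ i = x.left := by rw [← cancel_epi (pullback.fst Y.hom π), reassoc_of% hy, hl']
    exact ⟨Over.homMk y (by show y ≫ i ≫ G.hom = Y.hom; rw [reassoc_of% hyi, Over.w x]),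
      Over.OverMorphism.ext hyi⟩
  have hout : ∀ {Y : Over S} (y : Y ⟶ H), ∃ h, h ≫ j' = lift' (y ≫ j) := by
    intro Y y
    obtain ⟨h, hh⟩ := (hfac _ (lift' (y ≫ j)).left).mpr ⟨pullback.fst Y.hom π ≫ y.left, by
      show _ = pullback.lift _ _ _ ≫ _
      rw [pullback.lift_fst, Category.assoc]
      rfl⟩
    refine ⟨Over.homMk h ?_, Over.OverMorphism.ext hh⟩
    show h ≫ H'.hom = pullback.snd Y.hom π
    rw [← Over.w j', reassoc_of% hh]
    exact pullback.lift_snd _ _ _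
  let k : ∀ Y : Over S, (Over.map π).obj (Over.mk (pullback.snd Y.hom π)) ⟶ Y := fun Y =>
    Over.homMk (pullback.fst Y.hom π) pullback.condition
  have hk : ∀ {Y : Over S} (x : Y ⟶ G), DSPtsLib.theta π (lift' x) = k Y ≫ x := fun x =>
    Over.OverMorphism.ext (pullback.lift_fst _ _ _)
  have hlm : ∀ {Y : Over S} (x x' : Y ⟶ G), lift' (x * x') = lift' x * lift' x' := fun x x' => by
    refine (DSPtsLib.theta_bijective π).1 ?_
    rw [DSPtsLib.theta_mul, hk, hk, hk, MonObj.comp_mul]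
  have hl1 : ∀ {Y : Over S}, lift' (1 : Y ⟶ G) = 1 := fun {Y} => by
    have h := hlm (1 : Y ⟶ G) 1
    rwa [_root_.one_mul, left_eq_mul] at h
  have hli : ∀ {Y : Over S} (x : Y ⟶ G), lift' x⁻¹ = (lift' x)⁻¹ := fun x => by
    refine eq_inv_of_mul_eq_one_left ?_
    rw [← hlm, inv_mul_cancel, hl1]
  obtain ⟨η', he⟩ := hin η[G] ⟨1, by
    rw [show η[G] = (1 : 𝟙_ _ ⟶ G) by rw [Hom.one_def, toUnit_unique (toUnit _) (𝟙 _), Category.id_comp], hl1,
      MonObj.one_comp]⟩
  obtain ⟨μ', hm⟩ := hin ((fst H H ≫ j) * (snd H H ≫ j)) (by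
    obtain ⟨a, ha⟩ := hout (fst H H)
    obtain ⟨b, hb⟩ := hout (snd H H)
    exact ⟨a * b, by rw [MonObj.mul_comp, ha, hb, hlm]⟩)
  obtain ⟨ι', hv⟩ := hin j⁻¹ (by
    obtain ⟨a, ha⟩ := hout (𝟙 H)
    rw [Category.id_comp] at ha
    refine ⟨a⁻¹, ?_⟩
    rw [hli, ← ha]
    exact eq_inv_of_mul_eq_one_left (by rw [← MonObj.mul_comp, inv_mul_cancel, MonObj.one_comp]))
  obtain ⟨str, hjm⟩ := exists_grpObj_of_mono j η' he μ' hm ι' hv
  letI := str
  haveI := hjm
  -- the comparison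
  obtain ⟨f₁, hf₁⟩ : ∃ f, f ≫ j'.left = ((Over.pullback π).map j).left :=
    (hfac _ _).mpr ⟨pullback.fst H.hom π, by
      have h := congrArg (fun m : (Over.map π).obj (Red.bc π H) ⟶ G => m.left)
        (HomUnitLocus.theta_comp_map π _ (𝟙 (Red.bc π H)) j)
      exact (h.trans (by show (𝟙 _ ≫ pullback.fst H.hom π) ≫ i = pullback.fst H.hom π ≫ i; rw [Category.id_comp])).symm
        |>.trans (by rw [Category.id_comp]; rfl)⟩
  obtain ⟨f₂, hf₂⟩ := (hfac _ j'.left).mp ⟨𝟙 _, Category.id_comp _⟩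
  have hf₁w : f₁ ≫ H'.hom = pullback.snd H.hom π := by
    rw [← Over.w j', reassoc_of% hf₁]
    exact Over.w ((Over.pullback π).map j)
  let φh : Red.bc π H ⟶ H' := Over.homMk f₁ hf₁w
  let φi : H' ⟶ Red.bc π H := Over.homMk (pullback.lift f₂ H'.hom (by
    show f₂ ≫ i ≫ G.hom = H'.hom ≫ π
    rw [reassoc_of% hf₂, pullback.condition, ← Over.w j']
    exact (Category.assoc _ _ _).symm)) (pullback.lift_snd _ _ _)
  have hφh : φh ≫ j' = (Over.pullback π).map j := Over.OverMorphism.ext hf₁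
  have hφi : φi ≫ (Over.pullback π).map j = j' := by
    refine (DSPtsLib.theta_bijective π).1 (Over.OverMorphism.ext ?_)
    rw [HomUnitLocus.theta_comp_map]
    show (pullback.lift f₂ H'.hom _ ≫ pullback.fst H.hom π) ≫ i = j'.left ≫ pullback.fst G.hom π
    rw [pullback.lift_fst, hf₂]
  haveI : Mono ((Over.pullback π).map j) := inferInstance
  let φ : Red.bc π H ≅ H' :=
    ⟨φh, φi, by rw [← cancel_mono ((Over.pullback π).map j), Category.assoc, hφi, hφh, Category.id_comp],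
      by rw [← cancel_mono j', Category.assoc, hφh, hφi, Category.id_comp]⟩
  haveI : IsMonHom φ.hom := by
    constructor
    · rw [← cancel_mono j', Category.assoc]
      show η[Red.bc π H] ≫ φh ≫ j' = η[H'] ≫ j'
      rw [hφh, IsMonHom.one_hom j', IsMonHom.one_hom ((Over.pullback π).map j)]
    · rw [← cancel_mono j', Category.assoc, Category.assoc]
      show μ[Red.bc π H] ≫ φh ≫ j' = (φh ⊗ₘ φh) ≫ μ[H'] ≫ j'
      rw [hφh, IsMonHom.mul_hom j', IsMonHom.mul_hom ((Over.pullback π).map j), ← Category.assoc,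
        MonoidalCategory.tensorHom_comp_tensorHom, hφh]
  exact ⟨H, str, j, hjm, inferInstance, φ, hφh⟩

end Groth.Agent.MaxTorTransp
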