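import Groth.Agent.MaxTorTransp.Cartan
import Groth.Agent.MaxTorTransp.DescendMono

/-! The maximal torus of a Cartan subgroup descends. -/

set_option backward.isDefEq.respectTransparency false
set_option backward.isDefEq.respectTransparency.types false
set_option linter.style.haveILetI false
set_option autoImplicit false

universe u

open CategoryTheory Limits MonoidalCategory CartesianMonoidalCategory MonObj AlgebraicGeometry

namespace Groth.Agent.MaxTorTransp

open MaxTorCent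
open GrpLimLib (cmp)

variable {S : Scheme.{u}}

theorem isMonHom_cmp_hom {S' S'' : Scheme.{u}} {g : S' ⟶ S} {h : S'' ⟶ S'} {k : S'' ⟶ S} (e : h ≫ g = k)
    (G : Over S) [GrpObj G] : IsMonHom (cmp e G).hom := GrpLimLib.isMonHom_cmp e G

/-- A geometric point factors through the standard one over its image. -/
theorem exists_geom_factor {Ω : Type u} [Field Ω] [IsAlgClosed Ω] (b : Spec (CommRingCat.of Ω) ⟶ S) :
    ∃ (s : S) (σ : Spec (CommRingCat.of Ω) ⟶ Spec (CommRingCat.of (AlgebraicClosure (S.residueField s)))),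
      σ ≫ Red.geomPt s = b := by
  let s := b (IsLocalRing.closedPoint Ω)
  let φ : S.residueField s →+* Ω := (Scheme.descResidueField (Scheme.stalkClosedPointTo b)).hom
  letI : Algebra (S.residueField s) Ω := φ.toAlgebra
  let σ : AlgebraicClosure (S.residueField s) →ₐ[S.residueField s] Ω := IsAlgClosed.lift
  refine ⟨s, Spec.map (CommRingCat.ofHom σ.toRingHom), ?_⟩
  show Spec.map _ ≫ Spec.map _ ≫ _ = b
  rw [← Category.assoc, ← Spec.map_comp, ← CommRingCat.ofHom_comp]
  conv_rhs => rw [← Scheme.descResidueField_stalkClosedPointTo_fromSpecResidueField Ω S b]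
  congr 2
  ext x
  exact σ.commutes x

/-- Cartan subgroups over a field are invariant under isomorphisms. -/
theorem isCartanOver_of_iso {K : Type u} [Field K] {C C₂ G G₂ : Over (Spec (CommRingCat.of K))} [GrpObj C] [GrpObj C₂]
    [GrpObj G] [GrpObj G₂] {c : C ⟶ G} {c₂ : C₂ ⟶ G₂} (h : SGA3x.IsCartanOver K c) (eC : C ≅ C₂) (eG : G ≅ G₂)
    [IsMonHom eG.hom] [IsMonHom c₂] (he : eC.hom ≫ c₂ = c ≫ eG.hom) : SGA3x.IsCartanOver K c₂ := by
  obtain ⟨h1, h2, U, _, u, hU, hc⟩ := h
  haveI := h2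
  haveI : Mono c₂ := by
    rw [show c₂ = eC.inv ≫ c ≫ eG.hom by rw [← he, Iso.inv_hom_id_assoc]]
    infer_instance
  refine ⟨inferInstance, inferInstance, U, inferInstance, u ≫ eG.hom, isMaximalTorus_comp_iso hU eG.hom,
    inferInstance, inferInstance, fun X g => ?_⟩
  have h1' : (∃ z, z ≫ c₂ = g) ↔ ∃ z, z ≫ c = g ≫ eG.inv :=
    ⟨fun ⟨z, hz⟩ => ⟨z ≫ eC.inv, by rw [← hz, Category.assoc, Category.assoc]; congr 1; rw [Iso.eq_comp_inv,
      Category.assoc, ← he, Iso.inv_hom_id_assoc]⟩,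
      fun ⟨z, hz⟩ => ⟨z ≫ eC.hom, by rw [Category.assoc, he, ← Category.assoc, hz, Category.assoc, eG.inv_hom_id,
        Category.comp_id]⟩⟩
  rw [h1', hc.2.2]
  refine forall_congr' fun X' => forall_congr' fun x => forall_congr' fun a => ?_
  rw [← cancel_mono eG.hom, MonObj.mul_comp, MonObj.mul_comp]
  simp only [Category.assoc, Iso.inv_hom_id, Category.comp_id]

/-- Cartan subgroups are stable under base change. -/
theorem isCartan_bc {S' : Scheme.{u}} {G C : Over S} [GrpObj G] [GrpObj C] [Smooth G.hom] [IsSeparated G.hom]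
    [QuasiCompact G.hom] {c : C ⟶ G} (hc : SGA3x.IsCartan c) (f : S' ⟶ S) :
    SGA3x.IsCartan ((Over.pullback f).map c) := by
  obtain ⟨hc1, hc2, hCs, hfib⟩ := hc
  haveI := hc1; haveI := hc2; haveI := hCs
  haveI : (Over.pullback f).IsRightAdjoint := (Over.mapPullbackAdj f).isRightAdjoint
  refine ⟨inferInstance, inferInstance, inferInstanceAs (Smooth (pullback.snd C.hom f)), fun s' => ?_⟩
  obtain ⟨s, σ, hσ⟩ := exists_geom_factor (Red.geomPt s' ≫ f)
  haveI : (Over.pullback (Red.geomPt s)).IsRightAdjoint := (Over.mapPullbackAdj (Red.geomPt s)).isRightAdjoint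
  haveI : (Over.pullback σ).IsRightAdjoint := (Over.mapPullbackAdj σ).isRightAdjoint
  obtain ⟨h1, h2, U, _, u, hU, hcen⟩ := hfib s
  haveI := h1; haveI := h2
  haveI : LocallyOfFinitePresentation (Red.geomFibre s G).hom :=
    inferInstanceAs (LocallyOfFinitePresentation (pullback.snd G.hom (Red.geomPt s)))
  haveI : QuasiCompact (Red.geomFibre s G).hom := inferInstanceAs (QuasiCompact (pullback.snd G.hom (Red.geomPt s)))
  haveI : IsSeparated (Red.geomFibre s G).hom := inferInstanceAs (IsSeparated (pullback.snd G.hom (Red.geomPt s)))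
  have hσc : SGA3x.IsCartanOver _ ((Over.pullback σ).map ((Over.pullback (Red.geomPt s)).map c)) :=
    ⟨inferInstance, inferInstance, Red.bc σ U, inferInstance, (Over.pullback σ).map u, isMaximalTorus_bc hU σ,
      SolvGrp.isCentralizerOf_bc σ u _ hcen⟩
  haveI := isMonHom_cmp_hom hσ G
  haveI := isMonHom_cmp_hom (rfl : Red.geomPt s' ≫ f = _) G
  haveI : IsMonHom (cmp (rfl : Red.geomPt s' ≫ f = _) G).symm.hom :=
    inferInstanceAs (IsMonHom (cmp (rfl : Red.geomPt s' ≫ f = _) G).inv)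
  haveI : IsMonHom (cmp hσ G ≪≫ (cmp (rfl : Red.geomPt s' ≫ f = _) G).symm).hom :=
    inferInstanceAs (IsMonHom ((cmp hσ G).hom ≫ (cmp (rfl : Red.geomPt s' ≫ f = _) G).symm.hom))
  haveI : (Over.pullback (Red.geomPt s')).IsRightAdjoint := (Over.mapPullbackAdj (Red.geomPt s')).isRightAdjoint
  refine isCartanOver_of_iso hσc (cmp hσ C ≪≫ (cmp rfl C).symm) (cmp hσ G ≪≫ (cmp rfl G).symm) ?_
  show ((cmp hσ C).hom ≫ (cmp rfl C).inv) ≫ _ = _ ≫ (cmp hσ G).hom ≫ (cmp rfl G).inv
  rw [← Category.assoc (((Over.pullback σ).map _)), MaxTorusBC.cmp_naturality hσ c]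
  refine (Category.assoc _ _ _).trans (Eq.trans ?_ (Category.assoc _ _ _).symm)
  congr 1
  rw [Iso.inv_comp_eq, ← Category.assoc, ← MaxTorusBC.cmp_naturality (rfl : Red.geomPt s' ≫ f = _) c,
    Category.assoc, Iso.hom_inv_id, Category.comp_id]

/-- Being a torus descends along fpqc coverings. -/
theorem isTorus_of_bc {S' : Scheme.{u}} (π : S' ⟶ S) [Surjective π] (hπ : FpqcDescLib.IsCovering π) {H : Over S}
    [GrpObj H] {H' : Over S'} [GrpObj H'] (e : Red.bc π H ≅ H') [IsMonHom e.hom] (h : Red.IsTorus H') :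
    Red.IsTorus H := by
  obtain ⟨S'', f, hff, hfs, hfq, hfl⟩ := h
  haveI := hff; haveI := hfs
  obtain ⟨hfl', hcov'⟩ := GrpSchLib.SubgroupEqLocus.flat_hcov_of_isCovering
    ((FpqcDescLib.isCovering_of_flat f hfq).comp hπ)
  refine ⟨S'', f ≫ π, hfl', inferInstance, hcov', fun s => ?_⟩
  obtain ⟨U, hsU, r, ⟨e₀⟩⟩ := hfl s
  obtain ⟨e₁⟩ := GrpSchLib.MultTypeBC.bc_bc (U.ι ≫ f) π H
  obtain ⟨e₂⟩ := GrpSchLib.MultTypeBC.bc_congr (Category.assoc U.ι f π) H
  obtain ⟨e₃⟩ := GrpSchLib.MultTypeBC.bc_iso (U.ι ≫ f) (Grp.mkIso' e)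
  exact ⟨U, hsU, r, ⟨e₂.symm ≪≫ e₁.symm ≪≫ e₃ ≪≫ e₀⟩⟩

/-- The two pullbacks of a central maximal torus of `C` agree. -/
theorem key_of_central {C : Over S} [GrpObj C] [Smooth C.hom] [QuasiCompact C.hom] [IsSeparated C.hom]
    {S' : Scheme.{u}} {π : S' ⟶ S} {T' : Over S'} [GrpObj T'] (t' : T' ⟶ Red.bc π C)
    (ht : Red.IsMaximalTorus t') (hc : ∀ {X : Over S'} (g : X ⟶ Red.bc π C) (x : X ⟶ T'), g * (x ≫ t') = (x ≫ t') * g)
    (X : Scheme.{u}) (a b : X ⟶ pullback C.hom π) (hab : a ≫ pullback.fst C.hom π = b ≫ pullback.fst C.hom π)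
    (l : X ⟶ T'.left) (hl : l ≫ t'.left = a) : ∃ l', l' ≫ t'.left = b := by
  haveI : Smooth (Red.bc π C).hom := inferInstanceAs (Smooth (pullback.snd C.hom π))
  haveI : IsSeparated (Red.bc π C).hom := inferInstanceAs (IsSeparated (pullback.snd C.hom π))
  haveI : QuasiCompact (Red.bc π C).hom := inferInstanceAs (QuasiCompact (pullback.snd C.hom π))
  let σ : X ⟶ S := (a ≫ pullback.fst C.hom π) ≫ C.hom
  have ea : (a ≫ pullback.snd C.hom π) ≫ π = σ := by
    simp only [σ, Category.assoc, pullback.condition]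
  have eb : (b ≫ pullback.snd C.hom π) ≫ π = σ := by
    simp only [σ, hab]
    simp only [Category.assoc, pullback.condition]
  haveI : Smooth (Red.bc σ C).hom := inferInstanceAs (Smooth (pullback.snd C.hom σ))
  haveI : IsSeparated (Red.bc σ C).hom := inferInstanceAs (IsSeparated (pullback.snd C.hom σ))
  haveI : QuasiCompact (Red.bc σ C).hom := inferInstanceAs (QuasiCompact (pullback.snd C.hom σ))
  haveI := isMonHom_cmp_hom ea C
  haveI := isMonHom_cmp_hom eb C
  let ia := (Over.pullback (a ≫ pullback.snd C.hom π)).map t' ≫ (cmp ea C).hom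
  let ib := (Over.pullback (b ≫ pullback.snd C.hom π)).map t' ≫ (cmp eb C).hom
  have hia : Red.IsMaximalTorus ia := isMaximalTorus_comp_iso (isMaximalTorus_bc ht _) (cmp ea C).hom
  have hib : Red.IsMaximalTorus ib := isMaximalTorus_comp_iso (isMaximalTorus_bc ht _) (cmp eb C).hom
  have hcb : ∀ {Y : Over X} (g : Y ⟶ Red.bc σ C) (y : Y ⟶ Red.bc (b ≫ pullback.snd C.hom π) T'),
      g * (y ≫ ib) = (y ≫ ib) * g := fun {Y} g y => by
    obtain ⟨g', rfl⟩ : ∃ g', g' ≫ (cmp eb C).hom = g :=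
      ⟨g ≫ (cmp eb C).inv, by rw [Category.assoc, Iso.inv_hom_id, Category.comp_id]⟩
    simp only [ib, ← Category.assoc y, ← MonObj.mul_comp]
    congr 1
    refine (DSPtsLib.theta_bijective _).1 ?_
    rw [DSPtsLib.theta_mul, DSPtsLib.theta_mul, GrpSchLib.HomUnitLocus.theta_comp_map]
    exact hc _ _
  obtain ⟨φ, hφ⟩ := MaxTorCent.exists_iso hib hia hcb
  let la : X ⟶ (Red.bc (a ≫ pullback.snd C.hom π) T').left :=
    pullback.lift l (𝟙 X) (by rw [Category.id_comp, ← Over.w t', reassoc_of% hl]; rfl)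
  refine ⟨la ≫ φ.hom.left ≫ pullback.fst T'.hom _, pullback.hom_ext ?_ ?_⟩
  · rw [← hab, Category.assoc, Category.assoc, Category.assoc]
    have e1 := congrArg (fun m => la ≫ m.left ≫ pullback.fst C.hom σ) hφ
    simp only [ib, ia, Over.comp_left, Category.assoc, GrpLimLib.cmp_hom_fst, GrpLimLib.pr] at e1
    rw [reassoc_of% GrpLimLib.map_left_fst (h := b ≫ pullback.snd C.hom π), reassoc_of% GrpLimLib.map_left_fst (h := a ≫ pullback.snd C.hom π)] at e1
    refine e1.trans ?_
    simp only [la, pullback.lift_fst_assoc, reassoc_of% hl]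
  · rw [Category.assoc, Category.assoc, Category.assoc]
    erw [show t'.left ≫ pullback.snd C.hom π = T'.hom from Over.w t', pullback.condition]
    erw [← Category.assoc φ.hom.left, Over.w φ.hom]
    erw [pullback.lift_snd_assoc]
    exact Category.id_comp _

/-- After an fpqc covering, a Cartan subgroup contains a maximal torus. -/
theorem exists_torus_in_cartan {G C : Over S} [GrpObj G] [GrpObj C] [Smooth G.hom] [IsSeparated G.hom]
    [QuasiCompact G.hom] (hG : SGA3x.HasMaxTorusFpqcLocally G) {c : C ⟶ G} (hc : SGA3x.IsCartan c) :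
    ∃ (S' : Scheme.{u}) (π : S' ⟶ S), Flat π ∧ Surjective π ∧ FpqcDescLib.IsCovering π ∧
      ∃ (T : Over S') (_ : GrpObj T) (t : T ⟶ Red.bc π C),
        Red.IsMaximalTorus (t ≫ (Over.pullback π).map c) := by
  obtain ⟨S₁, p, hpf, hps, hpc, T₁, _, i₁, h₁⟩ := hG
  haveI := hpf; haveI := hps; haveI := h₁.1; haveI := h₁.2.1
  have hC₁ := isCartan_bc hc p
  obtain ⟨hc1, hc2, hCs, hfib⟩ := hC₁
  haveI := hc1; haveI := hc2; haveI := hCs
  haveI : Smooth (Red.bc p G).hom := inferInstanceAs (Smooth (pullback.snd G.hom p))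
  haveI : IsSeparated (Red.bc p G).hom := inferInstanceAs (IsSeparated (pullback.snd G.hom p))
  haveI : QuasiCompact (Red.bc p G).hom := inferInstanceAs (QuasiCompact (pullback.snd G.hom p))
  obtain ⟨S', q, hq, hqs, g, b, hb⟩ := exists_etale_conj i₁ h₁.2.2.1 ((Over.pullback p).map c) fun s => by
    haveI : Smooth (Red.geomFibre s (Red.bc p G)).hom :=
      inferInstanceAs (Smooth (pullback.snd (Red.bc p G).hom (Red.geomPt s)))
    haveI : QuasiCompact (Red.geomFibre s (Red.bc p G)).hom :=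
      inferInstanceAs (QuasiCompact (pullback.snd (Red.bc p G).hom (Red.geomPt s)))
    obtain ⟨-, -, U, _, u, hU, hcen⟩ := hfib s
    haveI := hU.1; haveI := hU.2.1
    obtain ⟨g, φ, hφ⟩ := exists_conj_maxTorus (SolvGrp.isMaxTorus_of_isMaximalTorus (isMaximalTorus_geomFibre h₁ s))
      (SolvGrp.isMaxTorus_of_isMaximalTorus hU)
    obtain ⟨u', hu'⟩ := (hcen.2.2 U u).mpr fun X x a => by
      rw [← MonObj.mul_comp, ← MonObj.mul_comp,
        GrpSchLib.MultTypeComm.points_comm (TorusQI.isMultTypeFT_of_isTorus hU.2.2.1)]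
    refine ⟨g, φ.hom ≫ u', ?_⟩
    rw [Category.assoc, hu', hφ, comp_conjEnd]
  haveI := hq; haveI := hqs
  have hcov : FpqcDescLib.IsCovering (q ≫ p) :=
    (FpqcDescLib.isCovering_of_lfp q).comp (FpqcDescLib.isCovering_of_flat p hpc)
  haveI := isMonHom_cmp_hom (rfl : q ≫ p = q ≫ p) G
  have hm := isMaximalTorus_comp_iso (isMaximalTorus_comp_iso (isMaximalTorus_bc h₁ q) (conjEnd g))
    (cmp (rfl : q ≫ p = q ≫ p) G).hom
  refine ⟨S', q ≫ p, inferInstance, inferInstance, hcov, Red.bc q T₁, inferInstance,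
    b ≫ (cmp (rfl : q ≫ p = q ≫ p) C).hom, ?_⟩
  rw [Category.assoc, ← MaxTorusBC.cmp_naturality, ← Category.assoc, hb]
  exact hm

/-- The maximal torus of a Cartan subgroup. -/
theorem exists_maximalTorus_of_cartan {G C : Over S} [GrpObj G] [GrpObj C] [Smooth G.hom] [IsSeparated G.hom]
    [QuasiCompact G.hom] (hG : SGA3x.HasMaxTorusFpqcLocally G) {c : C ⟶ G} (hc : SGA3x.IsCartan c) :
    IsClosedImmersion c.left ∧ ∃ (T : Over S) (_ : GrpObj T) (t : T ⟶ C),
      Red.IsMaximalTorus (t ≫ c) ∧ Red.IsCentralizerOf (t ≫ c) c := by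
  obtain ⟨S', π, hπf, hπs, hπ, T', _, t', ht'⟩ := exists_torus_in_cartan hG hc
  haveI := hπf; haveI := hπs
  haveI := hc.1; haveI := hc.2.1; haveI := hc.2.2.1
  haveI : (Over.pullback π).IsRightAdjoint := (Over.mapPullbackAdj π).isRightAdjoint
  haveI : Smooth (Red.bc π G).hom := inferInstanceAs (Smooth (pullback.snd G.hom π))
  haveI : IsSeparated (Red.bc π G).hom := inferInstanceAs (IsSeparated (pullback.snd G.hom π))
  haveI : QuasiCompact (Red.bc π G).hom := inferInstanceAs (QuasiCompact (pullback.snd G.hom π))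
  obtain ⟨-, hcl', htm, htc⟩ := centralizer_of_cartan (isCartan_bc hc π) t' ht'
  haveI := hcl'
  haveI hcl : IsClosedImmersion c.left := (FpqcDescLib.covers_of_isCovering
    (hπ.pullback G.hom _ (pullback.snd G.hom π) (IsPullback.of_hasPullback G.hom π))).isClosedImmersion c.left
      ((Over.pullback π).map c).left (pullback.fst C.hom π) (MaxTorusBC.isPullback_map π c).flip
  refine ⟨hcl, ?_⟩
  haveI : IsSeparated C.hom := by rw [← Over.w c]; infer_instance
  haveI : QuasiCompact C.hom := by rw [← Over.w c]; infer_instance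
  haveI := htm.1; haveI := htm.2.1
  haveI : IsSeparated (Red.bc π C).hom := inferInstanceAs (IsSeparated (pullback.snd C.hom π))
  haveI : Smooth (Red.bc π C).hom := inferInstanceAs (Smooth (pullback.snd C.hom π))
  haveI : QuasiCompact (Red.bc π C).hom := inferInstanceAs (QuasiCompact (pullback.snd C.hom π))
  obtain ⟨T, _, t, ht1, ht2, φ, hφ⟩ := exists_descent_mono t' hπ (TorusQI.isMultTypeFT_of_isTorus htm.2.2.1)
    fun X a b hab ⟨l, hl⟩ => key_of_central t' htm htc X a b hab l hl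
  haveI := ht1; haveI := ht2
  haveI : IsMonHom φ.hom := AGFLib.isMonHom_of_mul φ.hom fun X a b => by
    rw [← cancel_mono t', Category.assoc, hφ, MonObj.mul_comp, MonObj.mul_comp, Category.assoc, Category.assoc, hφ]
  have hT : Red.IsTorus T := isTorus_of_bc π hπ φ htm.2.2.1
  have hmax : Red.IsMaximalTorus (t ≫ c) := by
    refine (MaxTorusBC.isMaximalTorus_bc_iff (t ≫ c) hT π ‹_›).mpr ?_
    obtain ⟨h1, h2, h3, h4⟩ := ht'
    refine ⟨inferInstance, inferInstance, SolvGrp.isTorus_bc π hT, fun s U _ j _ _ f hU hf => ?_⟩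
    haveI : (Over.pullback (Red.geomPt s)).IsRightAdjoint := (Over.mapPullbackAdj (Red.geomPt s)).isRightAdjoint
    let e := (Over.pullback (Red.geomPt s)).mapIso φ
    haveI : IsIso (e.inv ≫ f) := h4 s U j (e.inv ≫ f) hU (by
      rw [Category.assoc, hf, Iso.inv_comp_eq]
      simp only [e, Functor.mapIso_hom, ← Functor.map_comp]
      rw [← Category.assoc, hφ, Functor.map_comp])
    haveI : IsIso e.inv := Iso.isIso_inv e
    exact IsIso.of_isIso_comp_left e.inv f
  exact ⟨T, inferInstance, t, hmax, (centralizer_of_cartan hc t hmax).1⟩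

end Groth.Agent.MaxTorTransp
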