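import Groth.Agent.MaxTorTransp.Basic
import Groth.Agent.MaxTorCent.Normalizer
import Groth.Agent.NonAffine.IdComp
import Groth.Agent.NonAffine.BorelTori
import Groth.Agent.SolvGrp.TorusSepClosed
import Groth.Agent.AGFLib.BorelImage
import Groth.Agent.S0412

/-! Points of the transporter of a torus: geometric points and étale local sections. -/

set_option backward.isDefEq.respectTransparency false
set_option backward.isDefEq.respectTransparency.types false
set_option linter.style.haveILetI false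
set_option autoImplicit false

universe u

open CategoryTheory Limits MonoidalCategory CartesianMonoidalCategory MonObj AlgebraicGeometry

namespace Groth.Agent.MaxTorTransp

open MultTypeLib MultTypeLib.CosetLift

section Field

open GrpSchLib AGFLib AGFLib.Gen AGFLib.BorelExist SolvGrp NonAffine

variable {k : Type u} [Field k] [IsAlgClosed k]

/-- Maximal tori of a smooth group are conjugate. -/
theorem exists_conj_maxTorus {G T T' : Over (Spec (CommRingCat.of k))} [GrpObj G] [GrpObj T] [GrpObj T']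
    [Smooth G.hom] [QuasiCompact G.hom] {i : T ⟶ G} {i' : T' ⟶ G} (hT : AGF.IsMaxTorus i) (hT' : AGF.IsMaxTorus i') :
    ∃ (g : 𝟙_ (Over (Spec (CommRingCat.of k))) ⟶ G) (φ : T ≅ T'), φ.hom ≫ i' = AGF.conjBy g i := by
  haveI := hT.1; haveI := hT.2.1; haveI := hT'.1; haveI := hT'.2.1
  obtain ⟨D, _, r, hr, hrc, hDs, hDc, hDq, -, huniv⟩ := exists_idSub G
  haveI := hr; haveI := hrc; haveI := hDs; haveI := hDc; haveI := hDq
  haveI : Mono r := mono_of_closedImmersion r
  have fac : ∀ {U : Over (Spec (CommRingCat.of k))} [GrpObj U] (j : U ⟶ G), AGF.IsMaxTorus j →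
      ∃ j₀ : U ⟶ D, AGF.IsMaxTorus j₀ ∧ j₀ ≫ r = j := fun {U} _ j hj => by
    haveI := hj.1; haveI := hj.2.1
    obtain ⟨ha, hs, hc, -⟩ := torus_props hj.2.2.1
    haveI := ha; haveI := hs; haveI := hc
    haveI : QuasiCompact U.hom := inferInstance
    obtain ⟨j₀, hj₀, hjr⟩ := huniv U j
    haveI := hj₀
    haveI : Mono (j₀ ≫ r) := hjr.symm ▸ ‹Mono j›
    haveI : Mono j₀ := mono_of_mono j₀ r
    exact ⟨j₀, NonAffine.isMaxTorus_of_comp r (hjr.symm ▸ hj), hjr⟩
  obtain ⟨a, ha, har⟩ := fac i hT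
  obtain ⟨b, hb, hbr⟩ := fac i' hT'
  obtain ⟨g, φ, hφ⟩ := maxTori_conj ha hb
  refine ⟨g ≫ r, φ, ?_⟩
  rw [← hbr, ← Category.assoc, ← hφ, ← har]
  simp only [AGF.conjBy, MonObj.mul_comp, GrpObj.inv_comp, Category.assoc]

end Field

variable {S S' : Scheme.{u}} {G T K : Over S} [GrpObj G] [GrpObj T] [GrpObj K]

/-- A point lies in the transporter iff its conjugation factors through the subgroup after base change. -/
theorem into_iff (k : K ⟶ G) (i : T ⟶ G) (σ : S' ⟶ S) (sec : 𝟙_ (Over S') ⟶ Red.bc σ G) :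
    Into k i (DSPtsLib.theta σ sec) ↔
      ∃ b : Red.bc σ T ⟶ Red.bc σ K, b ≫ (Over.pullback σ).map k = (Over.pullback σ).map i ≫ MaxTorCent.conjEnd sec := by
  constructor
  · intro h
    obtain ⟨κ, hκ⟩ := h _ ((Over.map σ).map (toUnit (Red.bc σ T))) (DSPtsLib.theta σ (𝟙 (Red.bc σ T)))
    obtain ⟨b, hb⟩ := (DSPtsLib.theta_bijective (g := σ) (Y := Red.bc σ T) (H := K)).2 κ
    refine ⟨b, (DSPtsLib.theta_bijective (g := σ) (H := G)).1 ?_⟩
    rw [SubgroupNbhd.theta_map, hb, MaxTorCent.comp_conjEnd, DSPtsLib.theta_mul, DSPtsLib.theta_mul,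
      MaxTorCent.theta_inv, DSPtsLib.theta_comp, ← hκ]
    rw [← SubgroupNbhd.theta_map, Category.id_comp]
  · rintro ⟨b, hb⟩ X' x h
    let Y : Over S' := Over.mk x.left
    let e : (Over.map σ).obj Y ≅ X' := Over.isoMk (Iso.refl _) (by
      show 𝟙 _ ≫ X'.hom = x.left ≫ σ
      rw [Category.id_comp]
      exact (Over.w x).symm.trans (congrArg (x.left ≫ ·) (Category.id_comp σ)))
    obtain ⟨a, ha⟩ := (DSPtsLib.theta_bijective (g := σ) (Y := Y) (H := T)).2 (e.hom ≫ h)
    refine ⟨e.inv ≫ DSPtsLib.theta σ (a ≫ b), (cancel_epi e.hom).mp ?_⟩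
    have h1 : (a ≫ (Over.pullback σ).map i) ≫ MaxTorCent.conjEnd sec = (a ≫ b) ≫ (Over.pullback σ).map k := by
      rw [Category.assoc, Category.assoc, hb]
    have h2 := congrArg (DSPtsLib.theta σ) h1
    rw [MaxTorCent.comp_conjEnd, DSPtsLib.theta_mul, DSPtsLib.theta_mul, MaxTorCent.theta_inv,
      SubgroupNbhd.theta_map, SubgroupNbhd.theta_map, DSPtsLib.theta_comp, ha] at h2
    have hx : (Over.map σ).map (toUnit Y) = e.hom ≫ x := by
      apply Over.OverMorphism.ext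
      show (toUnit Y).left = 𝟙 _ ≫ x.left
      rw [Category.id_comp]
      exact ((Category.comp_id _).symm.trans (Over.w (toUnit Y)))
    rw [hx] at h2
    simp only [Category.assoc, MonObj.comp_mul, GrpObj.comp_inv, Iso.hom_inv_id_assoc] at h2 ⊢
    exact h2

/-- A smooth surjective morphism has sections étale locally. -/
theorem exists_etale_section {X : Scheme.{u}} (f : X ⟶ S) [Smooth f] [Surjective f] :
    ∃ (S'' : Scheme.{u}) (q : S'' ⟶ S), Etale q ∧ Surjective q ∧ ∃ h : S'' ⟶ X, h ≫ f = q := by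
  choose S₁ g s₁ hg hgs h hh using fun s : S => Groth.Agent.S0412.result f s (f.surjective s)
  refine ⟨∐ S₁, Sigma.desc g, IsZariskiLocalAtSource.sigmaDesc hg, ⟨fun s => ?_⟩, Sigma.desc h, ?_⟩
  · refine ⟨Sigma.ι S₁ s (s₁ s), ?_⟩
    rw [← Scheme.Hom.comp_apply, Sigma.ι_desc, hgs]
  · apply Sigma.hom_ext
    intro s
    rw [Sigma.ι_desc_assoc, hh, Sigma.ι_desc]

/-- If on every geometric fibre some point conjugates the torus into the subgroup, then étale locally some point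
does. -/
theorem exists_etale_conj [Smooth G.hom] [Smooth K.hom] (i : T ⟶ G) [IsMonHom i] (hT : Red.IsTorus T) (k : K ⟶ G)
    [IsMonHom k] [Mono k]
    (hs : ∀ s : S, ∃ (g : 𝟙_ (Over (Spec (CommRingCat.of (AlgebraicClosure (S.residueField s))))) ⟶
        Red.bc (Red.geomPt s) G) (b : Red.bc (Red.geomPt s) T ⟶ Red.bc (Red.geomPt s) K),
      b ≫ (Over.pullback (Red.geomPt s)).map k = (Over.pullback (Red.geomPt s)).map i ≫ MaxTorCent.conjEnd g) :
    ∃ (S'' : Scheme.{u}) (q : S'' ⟶ S), Etale q ∧ Surjective q ∧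
      ∃ (g : 𝟙_ (Over S'') ⟶ Red.bc q G) (b : Red.bc q T ⟶ Red.bc q K),
        b ≫ (Over.pullback q).map k = (Over.pullback q).map i ≫ MaxTorCent.conjEnd g := by
  obtain ⟨M, m, hm, hMs, hM⟩ := exists_transporter i hT k
  haveI := hMs
  haveI : Surjective M.hom := ⟨fun s => by
    obtain ⟨g, b, hb⟩ := hs s
    obtain ⟨z, -⟩ := (hM _ _).mpr ((into_iff k i (Red.geomPt s) g).mpr ⟨b, hb⟩)
    refine ⟨z.left (IsLocalRing.closedPoint (AlgebraicClosure (S.residueField s))), ?_⟩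
    rw [← Scheme.Hom.comp_apply, Over.w z]
    show (𝟙 _ ≫ Red.geomPt s) _ = s
    rw [Category.id_comp]
    show (Spec.map _ ≫ S.fromSpecResidueField s) _ = s
    rw [Scheme.Hom.comp_apply, Scheme.fromSpecResidueField_apply]⟩
  obtain ⟨S'', q, hq, hqs, h, hh⟩ := exists_etale_section M.hom
  let z : (Over.map q).obj (𝟙_ (Over S'')) ⟶ M := Over.homMk h (by
    show h ≫ M.hom = 𝟙 _ ≫ q
    rw [Category.id_comp, hh])
  obtain ⟨g, hg⟩ := (DSPtsLib.theta_bijective (g := q) (Y := 𝟙_ (Over S'')) (H := G)).2 (z ≫ m)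
  exact ⟨S'', q, hq, hqs, g, (into_iff k i q g).mp (by rw [hg]; exact (hM _ _).mp ⟨z, rfl⟩)⟩

end Groth.Agent.MaxTorTransp

namespace Groth.Agent.MaxTorTransp

open MaxTorCent

/-- Maximal tori are conjugate étale locally. -/
theorem exists_etale_conjBy {S : Scheme.{u}} {G T₁ T₂ : Over S} [GrpObj G] [GrpObj T₁] [GrpObj T₂] [Smooth G.hom]
    [IsSeparated G.hom] [QuasiCompact G.hom] {i₁ : T₁ ⟶ G} {i₂ : T₂ ⟶ G} (h₁ : Red.IsMaximalTorus i₁)
    (h₂ : Red.IsMaximalTorus i₂) :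
    ∃ (S' : Scheme.{u}) (f : S' ⟶ S), Etale f ∧ Surjective f ∧
      ∃ g : 𝟙_ (Over S') ⟶ Red.bc f G, SGA3x.ConjBy ((Over.pullback f).map i₁) ((Over.pullback f).map i₂) g := by
  haveI := h₁.1; haveI := h₁.2.1
  obtain ⟨C, _, c, hc, hcl, hcart, i', hi', -, -⟩ := exists_cartan G h₂
  haveI := hc.1; haveI := hc.2.1; haveI := hcart.2.2.1
  obtain ⟨S', f, hf, hfs, g, b, hb⟩ := exists_etale_conj i₁ h₁.2.2.1 c fun s => by
    haveI : Smooth (Red.geomFibre s G).hom := inferInstanceAs (Smooth (pullback.snd G.hom (Red.geomPt s)))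
    haveI : QuasiCompact (Red.geomFibre s G).hom :=
      inferInstanceAs (QuasiCompact (pullback.snd G.hom (Red.geomPt s)))
    obtain ⟨g, φ, hφ⟩ := exists_conj_maxTorus (SolvGrp.isMaxTorus_of_isMaximalTorus (isMaximalTorus_geomFibre h₁ s))
      (SolvGrp.isMaxTorus_of_isMaximalTorus (isMaximalTorus_geomFibre h₂ s))
    refine ⟨g, φ.hom ≫ (Over.pullback (Red.geomPt s)).map i', ?_⟩
    rw [Category.assoc, ← Functor.map_comp, hi', hφ, comp_conjEnd]
  refine ⟨S', f, hf, hfs, g, ?_⟩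
  let F := Over.pullback f
  haveI : F.IsRightAdjoint := (Over.mapPullbackAdj f).isRightAdjoint
  haveI : Smooth (F.obj G).hom := inferInstanceAs (Smooth (pullback.snd G.hom f))
  haveI : IsSeparated (F.obj G).hom := inferInstanceAs (IsSeparated (pullback.snd G.hom f))
  haveI : QuasiCompact (F.obj G).hom := inferInstanceAs (QuasiCompact (pullback.snd G.hom f))
  have hT₂ := isMaximalTorus_bc h₂ f
  obtain ⟨C', _, c', hc', hcl', hcart', i'', hi'', hmax', hcen'⟩ := exists_cartan (F.obj G) hT₂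
  haveI := hcl'; haveI := hc'.1; haveI := hc'.2.1; haveI := hcart'.2.2.1
  haveI : QuasiCompact C'.hom := by rw [← Over.w c']; infer_instance
  haveI : IsSeparated C'.hom := by rw [← Over.w c']; infer_instance
  obtain ⟨e, he⟩ := SolvGrp.centralizer_unique (SolvGrp.isCentralizerOf_bc f i₂ c hc) hc'
  have hmG := isMaximalTorus_comp_iso (isMaximalTorus_bc h₁ f) (conjEnd g)
  haveI := hmG.1
  haveI := hmG.2.1
  have hj : (b ≫ e.hom) ≫ c' = F.map i₁ ≫ conjEnd g := by rw [Category.assoc, he, hb]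
  haveI : IsMonHom (b ≫ e.hom) := AGFLib.isMonHom_of_mul _ fun X a a' => by
    rw [← cancel_mono c', Category.assoc, hj, MonObj.mul_comp, MonObj.mul_comp, Category.assoc a, Category.assoc a', hj]
  haveI : Mono ((b ≫ e.hom) ≫ c') := hj.symm ▸ hmG.2.1
  haveI : Mono (b ≫ e.hom) := mono_of_mono (b ≫ e.hom) c'
  have hjm : Red.IsMaximalTorus (b ≫ e.hom) :=
    ⟨inferInstance, inferInstance, hmG.2.2.1, fun s T' _ l _ _ a hT' ha => by
      haveI : (Over.pullback (Red.geomPt s)).IsRightAdjoint := (Over.mapPullbackAdj (Red.geomPt s)).isRightAdjoint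
      exact hmG.2.2.2 s T' (l ≫ (Over.pullback (Red.geomPt s)).map c') a hT' (by
        rw [← Category.assoc, ha, ← Functor.map_comp, hj])⟩
  obtain ⟨ψ, hψ⟩ := exists_iso hmax' hjm hcen'
  refine ⟨ψ, ?_⟩
  rw [← hi'', ← Category.assoc ψ.hom, hψ, hj, comp_conjEnd]

end Groth.Agent.MaxTorTransp
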