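import Groth.Agent.MaxTorTransp.Conj
import Groth.Agent.GrpSchLib.HomFlatLft
import Groth.Agent.GrpSchLib.IsogenyFibre
import Groth.Agent.FpqcDescLib.Closed
import Mathlib.AlgebraicGeometry.Morphisms.FlatMono

/-! A Cartan subgroup containing a maximal torus is its centraliser. -/

set_option backward.isDefEq.respectTransparency false
set_option backward.isDefEq.respectTransparency.types false
set_option linter.style.haveILetI false
set_option autoImplicit false

universe u

open CategoryTheory Limits MonoidalCategory CartesianMonoidalCategory MonObj AlgebraicGeometry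

namespace Groth.Agent.MaxTorTransp

open MaxTorCent

variable {S : Scheme.{u}}

/-- A monomorphism of smooth groups with sections on the geometric fibres is an isomorphism. -/
theorem isIso_of_fibre_sections {A B : Over S} [GrpObj A] [GrpObj B] [Smooth A.hom] [Smooth B.hom] (a : A ⟶ B)
    [IsMonHom a] [Mono a]
    (h : ∀ s : S, ∃ b : Red.geomFibre s B ⟶ Red.geomFibre s A, b ≫ (Over.pullback (Red.geomPt s)).map a = 𝟙 _) :
    IsIso a := by
  haveI : Mono a.left := inferInstanceAs (Mono ((Over.forget _).map a))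
  haveI : LocallyOfFinitePresentation a.left := by
    haveI : LocallyOfFinitePresentation (a.left ≫ B.hom) := by rw [Over.w a]; infer_instance
    exact AlgSpPts.locallyOfFinitePresentation_of_comp a.left B.hom
  haveI : Surjective a.left := ⟨fun z => by
    obtain ⟨b, hb⟩ := h (B.hom z)
    obtain ⟨w, hw, -⟩ := Scheme.Pullback.exists_preimage_pullback (f := B.hom) (g := Red.geomPt (B.hom z)) z
      (IsLocalRing.closedPoint (AlgebraicClosure (S.residueField (B.hom z)))) (by
        show B.hom z = (Spec.map _ ≫ S.fromSpecResidueField _) _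
        rw [Scheme.Hom.comp_apply, Scheme.fromSpecResidueField_apply])
    refine ⟨pullback.fst A.hom _ (b.left w), ?_⟩
    have e := congrArg (fun m : Red.geomFibre (B.hom z) B ⟶ _ => m.left ≫ pullback.fst B.hom (Red.geomPt (B.hom z))) hb
    simp only [Over.comp_left, Category.assoc, GrpLimLib.map_left_fst, Over.id_left, Category.id_comp] at e
    show a.left ((pullback.fst A.hom _) (b.left w)) = z
    exact (congrArg (fun f : _ ⟶ B.left => f w) e).trans hw⟩
  haveI : GeometricallyReduced B.hom := GrpSchLib.IsogenyFibre.geometricallyReduced_of_smooth' B.hom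
  haveI : Flat a.left := (GrpSchLib.HomFlatLft.flat_hom a).1
  haveI : IsOpenImmersion a.left := IsOpenImmersion.of_flat_of_mono a.left
  haveI : IsIso a.left := (isIso_iff_isOpenImmersion_and_surjective a.left).mpr ⟨inferInstance, inferInstance⟩
  haveI : IsIso ((Over.forget S).map a) := ‹IsIso a.left›
  exact isIso_of_reflects_iso a (Over.forget S)

section Field

variable {k : Type u} [Field k] [IsAlgClosed k]

/-- Over an algebraically closed field a Cartan subgroup is the centraliser of every maximal torus it contains. -/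
theorem isCentralizerOf_of_cartanOver {G C T : Over (Spec (CommRingCat.of k))} [GrpObj G] [GrpObj C] [GrpObj T]
    [Smooth G.hom] [QuasiCompact G.hom] {c : C ⟶ G} (hC : SGA3x.IsCartanOver k c) (t : T ⟶ C)
    (hT : Red.IsMaximalTorus (t ≫ c)) : Red.IsCentralizerOf (t ≫ c) c := by
  haveI := GrpSchLib.AntiAffine.isSeparated_grp G
  obtain ⟨hc1, hc2, U, _, u, hU, hcen⟩ := hC
  haveI := hc1; haveI := hc2; haveI := hT.1; haveI := hT.2.1
  obtain ⟨C₀, _, c₀, hc₀, hcl, hcart, u', hu', hmax, hcomm⟩ := exists_cartan G hU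
  haveI := hcl; haveI := hc₀.1; haveI := hc₀.2.1; haveI := hcart.2.2.1
  haveI : QuasiCompact C₀.hom := by rw [← Over.w c₀]; infer_instance
  haveI : IsSeparated C₀.hom := by rw [← Over.w c₀]; infer_instance
  obtain ⟨e, he⟩ := SolvGrp.centralizer_unique hcen hc₀
  have ht : (t ≫ e.hom) ≫ c₀ = t ≫ c := by rw [Category.assoc, he]
  haveI : IsMonHom (t ≫ e.hom) := AGFLib.BorelImage.isMonHom_of_comp _ c₀ _ ht
  haveI : Mono ((t ≫ e.hom) ≫ c₀) := ht.symm ▸ hT.2.1
  haveI : Mono (t ≫ e.hom) := mono_of_mono (t ≫ e.hom) c₀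
  have hjm : Red.IsMaximalTorus (t ≫ e.hom) :=
    ⟨inferInstance, inferInstance, hT.2.2.1, fun s T' _ l _ _ a hT' ha => by
      haveI : (Over.pullback (Red.geomPt s)).IsRightAdjoint := (Over.mapPullbackAdj (Red.geomPt s)).isRightAdjoint
      exact hT.2.2.2 s T' (l ≫ (Over.pullback (Red.geomPt s)).map c₀) a hT' (by
        rw [← Category.assoc, ha, ← Functor.map_comp, ht])⟩
  obtain ⟨φ, hφ⟩ := MaxTorCent.exists_iso hmax hjm hcomm
  have hφu : φ.hom ≫ u = t ≫ c := by rw [← hu', ← Category.assoc, hφ, ht]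
  refine ⟨hc1, hc2, fun X g => (hcen.2.2 X g).trans (forall_congr' fun X' => forall_congr' fun x =>
    ⟨fun h a => ?_, fun h a => ?_⟩)⟩
  · have := h (a ≫ φ.hom)
    rwa [Category.assoc, hφu] at this
  · have := h (a ≫ φ.inv)
    rwa [← hφu, ← Category.assoc (a ≫ φ.inv), Category.assoc a φ.inv φ.hom, φ.inv_hom_id, Category.comp_id] at this

end Field

/-- A Cartan subgroup containing a maximal torus is its centraliser, and the torus is central and maximal in it. -/
theorem centralizer_of_cartan {G C T : Over S} [GrpObj G] [GrpObj C] [GrpObj T] [Smooth G.hom] [IsSeparated G.hom]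
    [QuasiCompact G.hom] {c : C ⟶ G} (hC : SGA3x.IsCartan c) (t : T ⟶ C) (hT : Red.IsMaximalTorus (t ≫ c)) :
    Red.IsCentralizerOf (t ≫ c) c ∧ IsClosedImmersion c.left ∧ Red.IsMaximalTorus t ∧
      ∀ {X : Over S} (g : X ⟶ C) (x : X ⟶ T), g * (x ≫ t) = (x ≫ t) * g := by
  obtain ⟨hc1, hc2, hCs, hfib⟩ := hC
  haveI := hc1; haveI := hc2; haveI := hCs; haveI := hT.1; haveI := hT.2.1
  haveI : IsMonHom t := AGFLib.isMonHom_of_mul t fun X a b => by
    rw [← cancel_mono c, Category.assoc, MonObj.mul_comp a b (t ≫ c), MonObj.mul_comp, Category.assoc, Category.assoc]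
  haveI : Mono t := mono_of_mono t c
  haveI : Mono c.left := inferInstanceAs (Mono ((Over.forget _).map c))
  haveI : IsSeparated C.hom := by rw [← Over.w c]; infer_instance
  have hfc : ∀ s : S, Red.IsCentralizerOf
      ((Over.pullback (Red.geomPt s)).map (t ≫ c)) ((Over.pullback (Red.geomPt s)).map c) := fun s => by
    haveI : Smooth (Red.geomFibre s G).hom := inferInstanceAs (Smooth (pullback.snd G.hom (Red.geomPt s)))
    haveI : QuasiCompact (Red.geomFibre s G).hom :=
      inferInstanceAs (QuasiCompact (pullback.snd G.hom (Red.geomPt s)))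
    have h := isCentralizerOf_of_cartanOver (hfib s) ((Over.pullback (Red.geomPt s)).map t) (by
      rw [← Functor.map_comp]; exact isMaximalTorus_geomFibre hT s)
    rwa [← Functor.map_comp] at h
  -- the torus is central
  obtain ⟨D, _, d, hd, hdc, hDs⟩ := exists_centralizer t (TorusQI.isMultTypeFT_of_isTorus hT.2.2.1)
  haveI := hd.1; haveI := hd.2.1; haveI := hDs
  haveI hdiso : IsIso d := isIso_of_fibre_sections d fun s => by
    refine ((SolvGrp.isCentralizerOf_bc (Red.geomPt s) t d hd).2.2 _ (𝟙 _)).mpr fun X' x a => ?_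
    haveI : Mono ((Over.pullback (Red.geomPt s)).map c) := (hfib s).2.1
    haveI : IsMonHom ((Over.pullback (Red.geomPt s)).map c) := (hfib s).1
    rw [← cancel_mono ((Over.pullback (Red.geomPt s)).map c), MonObj.mul_comp, MonObj.mul_comp, Category.comp_id,
      Category.assoc a, ← Functor.map_comp]
    have h := ((hfc s).2.2 _ (x ≫ (Over.pullback (Red.geomPt s)).map c)).mp ⟨x, rfl⟩ X' (𝟙 _) a
    simpa using h
  have hcomm : ∀ {X : Over S} (g : X ⟶ C) (x : X ⟶ T), g * (x ≫ t) = (x ≫ t) * g := fun {X} g x => by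
    simpa using (hd.2.2 X g).mp ⟨g ≫ inv d, by simp⟩ X (𝟙 X) x
  -- comparison with the centraliser
  obtain ⟨Z, _, z, hz, hzc, hzcart, -⟩ := exists_cartan G hT
  haveI := hz.1; haveI := hz.2.1; haveI := hzcart.2.2.1
  obtain ⟨a, ha⟩ := (hz.2.2 C c).mpr fun X x h => by
    rw [← Category.assoc h t c, ← MonObj.mul_comp, ← MonObj.mul_comp]
    exact congrArg (· ≫ c) (hcomm x h)
  haveI : IsMonHom a := AGFLib.isMonHom_of_mul a fun X x y => by
    rw [← cancel_mono z, Category.assoc, ha, MonObj.mul_comp, MonObj.mul_comp, Category.assoc, Category.assoc, ha]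
  haveI : Mono (a ≫ z) := ha.symm ▸ hc2
  haveI : Mono a := mono_of_mono a z
  haveI haiso : IsIso a := isIso_of_fibre_sections a fun s => by
    have hzs := SolvGrp.isCentralizerOf_bc (Red.geomPt s) (t ≫ c) z hz
    haveI := hzs.2.1
    obtain ⟨b, hb⟩ := ((hfc s).2.2 _ ((Over.pullback (Red.geomPt s)).map z)).mpr
      ((hzs.2.2 _ _).mp ⟨𝟙 _, Category.id_comp _⟩)
    refine ⟨b, (cancel_mono ((Over.pullback (Red.geomPt s)).map z)).mp ?_⟩
    rw [Category.assoc, ← Functor.map_comp, ha, hb, Category.id_comp]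
  have hcen : Red.IsCentralizerOf (t ≫ c) c := ⟨hc1, hc2, fun X g => by
    rw [← hz.2.2 X g]
    exact ⟨fun ⟨y, hy⟩ => ⟨y ≫ a, by rw [Category.assoc, ha, hy]⟩,
      fun ⟨y, hy⟩ => ⟨y ≫ inv a, by rw [Category.assoc, ← ha, IsIso.inv_hom_id_assoc, hy]⟩⟩⟩
  haveI : IsIso a.left := inferInstanceAs (IsIso ((Over.forget _).map a))
  haveI := hzc
  refine ⟨hcen, by rw [← ha]; exact inferInstanceAs (IsClosedImmersion (a.left ≫ z.left)),
    ⟨inferInstance, inferInstance, hT.2.2.1, fun s T' _ j _ _ f hT' hf => ?_⟩, hcomm⟩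
  haveI : (Over.pullback (Red.geomPt s)).IsRightAdjoint := (Over.mapPullbackAdj (Red.geomPt s)).isRightAdjoint
  exact hT.2.2.2 s T' (j ≫ (Over.pullback (Red.geomPt s)).map c) f hT' (by
    rw [← Category.assoc, hf, ← Functor.map_comp])

end Groth.Agent.MaxTorTransp
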