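import Groth.Agent.MultTypeLib.CosetLift
import Groth.Agent.SmoothWeilLib.Subgroups
import Groth.Agent.SmoothWeilLib.Conn
import Groth.Agent.FixTorus.TorusSmooth
import Groth.Agent.AGFLib.GeomBC
import Groth.Agent.SolvGrp.Fibre
import Groth.Agent.SolvGrp.TorusPts
import Groth.Agent.TorusQI.Torus

/-! The transporter of a torus into a smooth subgroup is closed and smooth. -/

set_option backward.isDefEq.respectTransparency false
set_option backward.isDefEq.respectTransparency.types false
set_option linter.style.haveILetI false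
set_option autoImplicit false

universe u

open CategoryTheory Limits MonoidalCategory CartesianMonoidalCategory MonObj AlgebraicGeometry

namespace Groth.Agent.MaxTorTransp

open MultTypeLib MultTypeLib.CosetLift MultTypeLib.GenLift

variable {S : Scheme.{u}}

/-- The fibres of a torus are connected. -/
theorem isConnected_fibre {T : Over S} [GrpObj T] (hT : Red.IsTorus T) (s : S) :
    _root_.IsConnected (T.hom.base ⁻¹' {s}) := by
  obtain ⟨-, -, hc, -⟩ := SolvGrp.torus_props (SolvGrp.isTorus_bc (Red.geomPt s) hT)
  haveI : ConnectedSpace ↥(pullback T.hom (Red.geomPt s)) := hc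
  let l := Spec.map (CommRingCat.ofHom (algebraMap (S.residueField s) (AlgebraicClosure (S.residueField s))))
  haveI : Surjective l :=
    ⟨fun x => ⟨IsLocalRing.closedPoint _, Subsingleton.elim (α := PrimeSpectrum (S.residueField s)) _ x⟩⟩
  let π : pullback T.hom (Red.geomPt s) ⟶ pullback T.hom (S.fromSpecResidueField s) :=
    pullback.lift (pullback.fst _ _) (pullback.snd _ _ ≫ l) (by rw [Category.assoc]; exact pullback.condition)
  haveI : Surjective π := by
    have h : IsPullback π (pullback.snd T.hom (Red.geomPt s)) (pullback.snd T.hom (S.fromSpecResidueField s)) l := by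
      refine IsPullback.of_right ?_ (pullback.lift_snd _ _ _) (IsPullback.of_hasPullback T.hom (S.fromSpecResidueField s))
      rw [pullback.lift_fst]
      exact IsPullback.of_hasPullback T.hom (Red.geomPt s)
    exact MorphismProperty.of_isPullback (P := @Surjective) h.flip ‹Surjective l›
  haveI : ConnectedSpace ↥(pullback T.hom (S.fromSpecResidueField s)) := π.surjective.connectedSpace π.continuous
  exact SmoothWeilLib.isConnected_preimage T.hom s

/-- The transporter of a torus into a smooth subgroup is a smooth closed subscheme. -/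
theorem exists_transporter {G T K : Over S} [GrpObj G] [GrpObj T] [GrpObj K] [Smooth G.hom] [Smooth K.hom]
    (i : T ⟶ G) [IsMonHom i] (hT : Red.IsTorus T) (k : K ⟶ G) [IsMonHom k] [Mono k] :
    ∃ (M : Over S) (m : M ⟶ G), IsClosedImmersion m.left ∧ Smooth M.hom ∧
      ∀ (X : Over S) (g : X ⟶ G), (∃ z : X ⟶ M, z ≫ m = g) ↔ Into k i g := by
  haveI := FixTorus.smooth_of_isTorus hT
  haveI : LocallyOfFinitePresentation k.left := by
    haveI : LocallyOfFinitePresentation (k.left ≫ G.hom) := by rw [Over.w k]; infer_instance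
    exact AlgSpPts.locallyOfFinitePresentation_of_comp k.left G.hom
  obtain ⟨M, m, hm, hmf, hM⟩ := SmoothWeilLib.exists_transporter (isConnected_fibre hT) i k
  haveI := hm; haveI := hmf
  haveI : LocallyOfFinitePresentation M.hom := by rw [← Over.w m]; infer_instance
  haveI : Mono m := (Over.forget _).mono_of_mono_map (inferInstanceAs (Mono m.left))
  refine ⟨M, m, hm, (Groth.Agent.S1488.result M.hom).mpr ⟨inferInstance, fun B _ J hJ a b hab => ?_⟩, hM⟩
  let p : PT b (Ideal.Quotient.mk J) ⟶ M := Over.homMk a hab.symm
  obtain ⟨x, hx, hxI⟩ := CosetLift.exists_into_lift k i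
    (GenMultType.of_multTypeFT (TorusQI.isMultTypeFT_of_isTorus hT)) b (Ideal.Quotient.mk J)
    Ideal.Quotient.mk_surjective ⟨2, by rw [Ideal.mk_ker]; exact hJ⟩ (p ≫ m) ((hM _ _).mp ⟨p, rfl⟩)
  obtain ⟨q, hq⟩ := (hM _ x).mpr hxI
  have hpq : ptm b (Ideal.Quotient.mk J) ≫ q = p := by rw [← cancel_mono m, Category.assoc, hq, hx]
  exact ⟨q.left, congrArg (fun f => CommaMorphism.left f) hpq, Over.w q⟩

end Groth.Agent.MaxTorTransp
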